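import Cfsg.Agent.Helper17.M11PTC.Perm

set_option autoImplicit false
set_option linter.all false
set_option maxRecDepth 100000
set_option maxHeartbeats 0
set_option Elab.async false

noncomputable section

namespace Cfsg.Agent.Helper17.M11PTC

open Cfsg.Spor Cfsg.Agent.Helper17.TCG Cfsg.Agent.Helper17.SmallSpor

def oidT : ℕ := 0x1b69a6d36db29a4cb2c949224929244924949244924a249248

def oparT : ℕ := 0x1fbb74e5c3262d17bb6ab1a2a5299d2448dd1aa42a8fab3a74e1b325cc152c4c893223868c1828509102040824183090a14208060c1020204080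

def oletT : ℕ := 0xfae9dac735589deaef96ccf9331d8d980

def odepT : ℕ := 0x453665425532217434446170683333566552222445544411112334333022221100

def oid (i : ℕ) : ℕ := Nat.land (Nat.shiftRight oidT (Nat.mul 3 i)) 7

def opar (i : ℕ) : ℕ := Nat.land (Nat.shiftRight oparT (Nat.mul 7 i)) 127

def olet (i : ℕ) : ℕ := Nat.land (Nat.shiftRight oletT (Nat.mul 2 i)) 3

def odep (i : ℕ) : ℕ := Nat.land (Nat.shiftRight odepT (Nat.mul 4 i)) 15

def oroot : ℕ → ℕ
  | 0 => 0
  | 1 => 1
  | 2 => 8
  | 3 => 42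
  | _ => 0

def ClsStab : Subgroup (Equiv.Perm ℕ) where
  carrier := {π | ∀ i, i < N → oid (π i) = oid i ∧ π i < N}
  mul_mem' := by
    intro a b ha hb i hi
    rw [Equiv.Perm.mul_apply]
    obtain ⟨h1, h2⟩ := hb i hi
    obtain ⟨h3, h4⟩ := ha _ h2
    exact ⟨h3.trans h1, h4⟩
  one_mem' := fun i hi => ⟨rfl, hi⟩
  inv_mem' := by
    intro π h i hi
    have hmaps : Set.MapsTo π (Finset.range N : Set ℕ) (Finset.range N : Set ℕ) := by
      intro j hj
      simp only [Finset.coe_range, Set.mem_Iio] at hj ⊢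
      exact (h j hj).2
    have hsurj : Set.SurjOn π (Finset.range N : Set ℕ) (Finset.range N : Set ℕ) :=
      Finset.surjOn_of_injOn_of_card_le π hmaps (π.injective.injOn) le_rfl
    obtain ⟨j, hj, hji⟩ := hsurj (by simpa using hi : i ∈ (Finset.range N : Set ℕ))
    simp only [Finset.coe_range, Set.mem_Iio] at hj
    have : π⁻¹ i = j := by rw [Equiv.Perm.inv_eq_iff_eq]; exact hji.symm
    rw [this]
    exact ⟨by rw [← hji]; exact ((h j hj).1).symm, hj⟩

def pCls (k i : ℕ) : Bool := Nat.beq (oid (evalC (subW k) i)) (oid i)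

def pClsK (cw : List ℕ) (i : ℕ) : Bool := Nat.beq (oid (evalK cw i)) (oid i)

def kS0 : List ℕ := [c0]

theorem CLS0_0 : allR 0 66 (pClsK kS0) = true := by decide +kernel

theorem CLS0_all : ∀ i, i < N → (pClsK kS0) i = true := by
  intro i hi
  have hN : N = 66 := rfl
  exact (allR_iff _ _ _).mp CLS0_0 i (by omega) (by omega)

theorem CLSW0 : ∀ i, i < N → pCls 0 i = true := fun i hi => by
  rw [pCls, evalC_eq_evalK, show (subW 0).map colOf = kS0 from rfl]
  exact CLS0_all i hi

def kS1 : List ℕ := [c1]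

theorem CLS1_0 : allR 0 66 (pClsK kS1) = true := by decide +kernel

theorem CLS1_all : ∀ i, i < N → (pClsK kS1) i = true := by
  intro i hi
  have hN : N = 66 := rfl
  exact (allR_iff _ _ _).mp CLS1_0 i (by omega) (by omega)

theorem CLSW1 : ∀ i, i < N → pCls 1 i = true := fun i hi => by
  rw [pCls, evalC_eq_evalK, show (subW 1).map colOf = kS1 from rfl]
  exact CLS1_all i hi

def kS2 : List ℕ := [c2]

theorem CLS2_0 : allR 0 66 (pClsK kS2) = true := by decide +kernel

theorem CLS2_all : ∀ i, i < N → (pClsK kS2) i = true := by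
  intro i hi
  have hN : N = 66 := rfl
  exact (allR_iff _ _ _).mp CLS2_0 i (by omega) (by omega)

theorem CLSW2 : ∀ i, i < N → pCls 2 i = true := fun i hi => by
  rw [pCls, evalC_eq_evalK, show (subW 2).map colOf = kS2 from rfl]
  exact CLS2_all i hi

def kS3 : List ℕ := [c3]

theorem CLS3_0 : allR 0 66 (pClsK kS3) = true := by decide +kernel

theorem CLS3_all : ∀ i, i < N → (pClsK kS3) i = true := by
  intro i hi
  have hN : N = 66 := rfl
  exact (allR_iff _ _ _).mp CLS3_0 i (by omega) (by omega)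

theorem CLSW3 : ∀ i, i < N → pCls 3 i = true := fun i hi => by
  rw [pCls, evalC_eq_evalK, show (subW 3).map colOf = kS3 from rfl]
  exact CLS3_all i hi

theorem CLS_all : ∀ k, k < nsub → ∀ i, i < N → pCls k i = true := by
  intro k hk
  unfold nsub at hk
  interval_cases k
  · exact CLSW0
  · exact CLSW1
  · exact CLSW2
  · exact CLSW3

theorem phi_cls : ∀ h ∈ Hs, ∀ i, i < N → oid (phi h i) = oid i := by
  intro h hh i hi
  have := Hs_le ClsStab (fun k hk => by
    intro i hi
    rw [permw_apply]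
    refine ⟨?_, evalw_lt _ hi⟩
    rw [evalw_eq_evalC _ (subW_lt hk) hi]
    exact nbeq.mp (CLS_all k hk i hi)) h hh
  exact (this i hi).1

def pOrb (i : ℕ) : Bool :=
  Nat.beq i (oroot (oid i)) ||
    (Nat.ble (Nat.succ (opar i)) N && Nat.beq (oid (opar i)) (oid i) &&
      Nat.ble (Nat.succ (odep (opar i))) (odep i) &&
      Nat.ble (Nat.succ (olet i)) nsub && Nat.beq (evalC (subW (olet i)) (opar i)) i)

theorem ORB_0 : allR 0 66 (pOrb) = true := by decide +kernel

theorem ORB_all : ∀ i, i < N → (pOrb) i = true := by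
  intro i hi
  have hN : N = 66 := rfl
  exact (allR_iff _ _ _).mp ORB_0 i (by omega) (by omega)

theorem orb_reach (c : ℕ) : ∀ d i, i < N → odep i = d → oid i = c →
    ∃ h ∈ Hs, phi h (oroot c) = i := by
  intro d
  induction d using Nat.strong_induction_on with
  | _ d ih =>
    intro i hi hd hc
    have h := ORB_all i hi
    simp only [pOrb, Bool.or_eq_true, Bool.and_eq_true, nble_succ, nbeq] at h
    rcases h with h | ⟨⟨⟨⟨h1, h2⟩, h3⟩, h4⟩, h5⟩
    · exact ⟨1, Hs.one_mem, by rw [map_one, Equiv.Perm.one_apply, ← hc, ← h]⟩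
    · obtain ⟨h', hh', e⟩ := ih (odep (opar i)) (hd ▸ h3) (opar i) h1 rfl (h2.trans hc)
      obtain ⟨s, hs, es⟩ := subW_mem (olet i) h4
      refine ⟨PresentedGroup.mk Rels s * h', Hs.mul_mem ?_ hh', ?_⟩
      · rw [Hs_eq]
        exact Subgroup.mem_map_of_mem _ (Subgroup.subset_closure hs)
      · rw [map_mul, Equiv.Perm.mul_apply, e, es, permw_apply,
          evalw_eq_evalC _ (subW_lt h4) h1, h5]

theorem orbit_ncard (c r : ℕ) (hr : r < N) (hroot : oroot c = r) (hc : oid r = c) :
    (MulAction.orbit Hs (nd r)).ncard = ((Finset.range N).filter (fun i => oid i = c)).card := by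
  rw [TCG.orbit_ncard_eq Hs phi hH psi_inj (nd r) ↑((Finset.range N).filter (fun i => oid i = c)),
    Set.ncard_coe_finset]
  · intro h hh
    show phi h (psiQ (nd r)) ∈ _
    rw [hpsi r hr]
    simp only [Finset.coe_filter, Finset.mem_range, Set.mem_setOf_eq]
    exact ⟨phi_lt h hr, (phi_cls h hh r hr).trans hc⟩
  · intro i hi
    simp only [Finset.coe_filter, Finset.mem_range, Set.mem_setOf_eq] at hi
    obtain ⟨h, hh, e⟩ := orb_reach c (odep i) i hi.1 rfl hi.2
    refine ⟨h, hh, ?_⟩
    show phi h (psiQ (nd r)) = i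
    rw [hpsi r hr, ← hroot, e]

theorem orbit_ne (r r' : ℕ) (hr : r < N) (hr' : r' < N) (hne : oid r ≠ oid r') :
    MulAction.orbit Hs (nd r) ≠ MulAction.orbit Hs (nd r') := by
  intro heq
  have hmem : nd r' ∈ MulAction.orbit Hs (nd r) := heq ▸ MulAction.mem_orbit_self _
  obtain ⟨⟨h, hh⟩, e⟩ := hmem
  have e' : h • nd r = nd r' := e
  have := congrArg psiQ e'
  unfold psiQ at this
  rw [TCG.psi_smul] at this
  have h1 : phi h r = r' := by
    have a1 := hpsi r hr
    have a2 := hpsi r' hr'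
    unfold psiQ at a1 a2
    rw [a1, a2] at this
    exact this
  exact hne ((phi_cls h hh r hr).symm.trans (by rw [h1]))


end Cfsg.Agent.Helper17.M11PTC
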