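import Cfsg.Agent.Helper17.M11PTC.Lemmas

set_option autoImplicit false
set_option linter.all false

noncomputable section

namespace Cfsg.Agent.Helper17.M11PTC

theorem F1 : act 0 n0 = n0 := d12_0 B0 
theorem F2 : act 1 n0 = n0 := d13_0 B1 
theorem F3 : act 2 n0 = n0 := d14_0 B2 
theorem F4 : act 3 n0 = n0 := d15_0 B3 
def n1 : Q := act 4 n0
theorem D1 : act 4 n0 = n1 := rfl
theorem F5 : act 3 n1 = n1 := d9_1 D1 (iv D1) F4
theorem F6 : act 1 n1 = n1 := d10_12 (iv D1) F3 F2 F4 F3 F4 F3 F4 F2 F3 D1 F5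
def n2 : Q := act 0 n1
theorem D2 : act 0 n1 = n2 := rfl
theorem F7 : act 3 n2 = n2 := d2_2 F5 D2 (iv D2)
theorem F8 : act 4 n2 = n2 := d3_2 D1 D2 (iv D2) (iv D1) F1
def n3 : Q := act 2 n1
theorem D3 : act 2 n1 = n3 := rfl
def n4 : Q := act 1 n2
theorem D4 : act 1 n2 = n4 := rfl
theorem F9 : act 0 n4 = n4 := d0_1 D4 (iv D4) (iv D2) F6 D2
theorem F10 : act 3 n4 = n4 := d5_2 F7 D4 (iv D4)
def n5 : Q := act 2 n2
theorem D5 : act 2 n2 = n5 := rfl
theorem F11 : act 0 n5 = n3 := d1_1 D5 (iv D3) D2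
def n6 : Q := act 1 n3
theorem D6 : act 1 n3 = n6 := rfl
theorem F12 : act 2 n6 = n6 := d4_2 D3 D6 (iv D6) (iv D3) F6
def n7 : Q := act 3 n3
theorem D7 : act 3 n3 = n7 := rfl
theorem F13 : act 2 n7 = n7 := d7_1 D7 (iv D7) (iv D3) F5 D3
def n8 : Q := act 4 n3
theorem D8 : act 4 n3 = n8 := rfl
def n9 : Q := act 2 n4
theorem D9 : act 2 n4 = n9 := rfl
theorem F14 : act 0 n9 = n9 := d1_1 D9 (iv D9) F9
def n10 : Q := act 4 n4
theorem D10 : act 4 n4 = n10 := rfl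
def n11 : Q := act 1 n5
theorem D11 : act 1 n5 = n11 := rfl
def n12 : Q := act 3 n5
theorem D12 : act 3 n5 = n12 := rfl
theorem F16 : act 0 n12 = n7 := d2_1 D12 (iv D7) (iv F11)
theorem F17 : act 2 n12 = n12 := d7_1 D12 (iv D12) (iv D5) F7 D5
def n13 : Q := act 4 n5
theorem D13 : act 4 n5 = n13 := rfl
theorem F18 : act 1 n13 = n9 := d11_9 (iv D1) F1 F2 F3 F2 D1 D3 (iv F11) D13 (iv D9) F10 (iv D4) (iv D2)
theorem F19 : act 2 n11 = n13 := d4_0 F18 (iv D9) (iv D4) D5 D11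
def n14 : Q := act 0 n6
theorem D14 : act 0 n6 = n14 := rfl
theorem F20 : act 2 n14 = n14 := d1_2 F12 D14 (iv D14)
def n15 : Q := act 3 n6
theorem D15 : act 3 n6 = n15 := rfl
theorem F21 : act 1 n15 = n7 := d5_1 D15 (iv D7) D6
def n16 : Q := act 4 n6
theorem D16 : act 4 n6 = n16 := rfl
def n17 : Q := act 4 n7
theorem D17 : act 4 n7 = n17 := rfl
theorem F22 : act 3 n17 = n8 := d9_1 D17 (iv D8) D7
theorem F23 : act 1 n17 = n16 := d10_12 (iv D16) F12 (iv D6) D7 F13 (iv D7) (iv D3) F5 F6 D3 D8 (iv F22)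
def n18 : Q := act 0 n8
theorem D18 : act 0 n8 = n18 := rfl
def n19 : Q := act 1 n8
theorem D19 : act 1 n8 = n19 := rfl
theorem F24 : act 3 n19 = n16 := d5_2 F22 D19 (iv F23)
theorem F25 : act 4 n19 = n15 := d6_2 D8 D19 F21 D17 F23 (iv D16) (iv D6)
def n20 : Q := act 2 n8
theorem D20 : act 2 n8 = n20 := rfl
theorem F26 : act 4 n20 = n20 := d8_2 D8 D20 (iv D20) (iv D8) (iv D3) (iv D1) F3 D1 D3
def n21 : Q := act 3 n9
theorem D21 : act 3 n9 = n21 := rfl
theorem F27 : act 0 n21 = n21 := d2_1 D21 (iv D21) F14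
theorem F28 : act 2 n21 = n21 := d7_1 D21 (iv D21) (iv D9) F10 D9
theorem F29 : act 4 n11 = n21 := d10_10 (iv D13) (iv D5) D4 F10 D9 D21 F28 (iv D21) (iv F18) (iv F19) (iv D21) (iv F18)
theorem E1 : n10 = n4 := (c11_1 D10 F9 (iv D4) D5 D11 F29 F28 F27 (iv F29) (iv D11) (iv D5) F7 D4 F9)
theorem F30 : act 4 n4 = n4 := (sb E1 (iv D10))
def n22 : Q := act 4 n9
theorem D22 : act 4 n9 = n22 := rfl
theorem F31 : act 3 n22 = n11 := d9_1 D22 F29 (iv D21)
theorem F32 : act 1 n12 = n22 := d10_12 (iv D22) (iv D9) (iv D4) F7 D5 D12 F17 (iv D12) D11 F19 (iv D13) D12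
def n23 : Q := act 0 n11
theorem D23 : act 0 n11 = n23 := rfl
theorem F33 : act 1 n23 = n14 := d0_2 D11 D23 (iv D14) (iv D6) (iv F11)
theorem F34 : act 4 n23 = n23 := d3_2 (iv F29) D23 (iv D23) F29 F27
def n24 : Q := act 4 n12
theorem D24 : act 4 n12 = n24 := rfl
theorem F35 : act 1 n24 = n21 := d6_1 D24 (iv F29) (iv D11) D13 F18 D22 (iv F32)
theorem F36 : act 3 n24 = n13 := d9_1 D24 (iv D13) D12
def n25 : Q := act 0 n13
theorem D25 : act 0 n13 = n25 := rfl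
theorem F37 : act 1 n25 = n25 := d0_2 (iv F18) D25 (iv D25) F18 F14
theorem F38 : act 2 n25 = n23 := d1_2 F19 D25 (iv D23)
theorem F39 : act 4 n25 = n18 := d3_2 D13 D25 (iv D18) (iv D8) (iv F11)
theorem F40 : act 2 n19 = n16 := d11_3 F39 (iv D18) D19 (iv F23) (iv D17) F13 (iv F16) D24 F35 F28 (iv D21) (iv F18) D25
theorem F41 : act 0 n19 = n16 := d11_7 F8 (iv D2) F6 D3 D6 D16 (iv F40) (iv D16) (iv D6) (iv D3) F5 F6 D2
def n26 : Q := act 3 n14
theorem D26 : act 3 n14 = n26 := rfl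
theorem F42 : act 0 n26 = n15 := d2_1 D26 (iv D15) D14
theorem F43 : act 4 n14 = n26 := d3_0 F42 (iv F25) F41 (iv D16) D14
def n27 : Q := act 2 n15
theorem D27 : act 2 n15 = n27 := rfl
theorem F44 : act 1 n27 = n27 := d4_1 D27 (iv D27) F21 F13 (iv F21)
theorem F45 : act 3 n27 = n27 := d7_2 D15 D27 (iv D27) (iv D15) F12
theorem F46 : act 4 n27 = n27 := d8_2 F25 D27 (iv D27) (iv F25) F40 (iv D16) F12 D16 (iv F40)
def n28 : Q := act 0 n17
theorem D28 : act 0 n17 = n28 := rfl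
theorem F47 : act 1 n28 = n18 := d0_2 (iv F23) D28 (iv D18) D19 F41
theorem F48 : act 3 n28 = n18 := d2_2 (iv F22) D28 (iv D18)
def n29 : Q := act 2 n17
theorem D29 : act 2 n17 = n29 := rfl
theorem F49 : act 1 n29 = n20 := d4_1 D29 (iv D20) D19 F40 (iv F23)
def n30 : Q := act 2 n18
theorem D30 : act 2 n18 = n30 := rfl
theorem F50 : act 0 n30 = n20 := d1_1 D30 (iv D20) D18
def n31 : Q := act 3 n20
theorem D31 : act 3 n20 = n31 := rfl
theorem F51 : act 4 n31 = n31 := d9_2 F26 D31 (iv D31)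
def n32 : Q := act 0 n22
theorem D32 : act 0 n22 = n32 := rfl
theorem F52 : act 1 n32 = n26 := d0_2 F32 D32 F42 F21 (iv F16)
theorem F53 : act 3 n32 = n23 := d2_2 (iv F31) D32 (iv D23)
theorem F54 : act 4 n32 = n32 := d3_2 D22 D32 (iv D32) (iv D22) F14
def n33 : Q := act 2 n22
theorem D33 : act 2 n22 = n33 := rfl
theorem F55 : act 1 n33 = n33 := d4_1 D33 (iv D33) (iv F32) F17 F32
def n34 : Q := act 0 n24
theorem D34 : act 0 n24 = n34 := rfl
theorem F56 : act 1 n34 = n34 := d0_2 (iv F35) D34 (iv D34) F35 F27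
theorem F57 : act 3 n34 = n25 := d2_2 (iv F36) D34 (iv D25)
theorem F58 : act 4 n34 = n28 := d3_2 D24 D34 (iv D28) (iv D17) (iv F16)
def n35 : Q := act 2 n24
theorem D35 : act 2 n24 = n35 := rfl
theorem F59 : act 1 n35 = n35 := d4_1 D35 (iv D35) F35 F28 (iv F35)
theorem F60 : act 3 n35 = n33 := d7_2 (iv F36) D35 (iv D33) F31 F19
def n36 : Q := act 2 n26
theorem D36 : act 2 n26 = n36 := rfl
theorem F61 : act 0 n36 = n27 := d1_1 D36 (iv D27) (iv F42)
theorem F62 : act 3 n36 = n36 := d7_2 D26 D36 (iv D36) (iv D26) F20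
def n37 : Q := act 2 n28
theorem D37 : act 2 n28 = n37 := rfl
theorem F63 : act 0 n37 = n29 := d1_1 D37 (iv D29) D28
def n38 : Q := act 3 n29
theorem D38 : act 3 n29 = n38 := rfl
theorem F64 : act 1 n38 = n31 := d5_1 D38 (iv D31) (iv F49)
theorem F65 : act 2 n38 = n31 := d7_1 D38 (iv D31) (iv D20) (iv F22) D29
theorem F66 : act 4 n38 = n29 := d10_10 F51 (iv F65) F64 (iv D31) (iv D20) (iv F22) D29 D38 F64 (iv F65) D38 F64
def n39 : Q := act 1 n30
theorem D39 : act 1 n30 = n39 := rfl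
def n40 : Q := act 3 n30
theorem D40 : act 3 n30 = n40 := rfl
theorem F67 : act 0 n40 = n31 := d2_1 D40 (iv D31) (iv F50)
def n41 : Q := act 4 n30
theorem D41 : act 4 n30 = n41 := rfl
theorem F68 : act 0 n41 = n41 := d3_1 D41 (iv D41) F50 F26 (iv F50)
theorem F69 : act 2 n41 = n41 := d8_1 D41 (iv D41) (iv D30) (iv F39) F38 F34 (iv F38) F39 D30
def n42 : Q := act 2 n32
theorem D42 : act 2 n32 = n42 := rfl
theorem F70 : act 0 n42 = n33 := d1_1 D42 (iv D33) D32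
theorem F71 : act 4 n39 = n42 := d11_5 D17 D28 F47 D30 D39 (iv D42) (iv D32) (iv D22) (iv F18) (iv F19) (iv F31) (iv F32) F16
def n43 : Q := act 4 n33
theorem D43 : act 4 n33 = n43 := rfl
theorem F72 : act 2 n43 = n43 := d8_1 D43 (iv D43) (iv D33) (iv D22) (iv D9) F30 D9 D22 D33
def n44 : Q := act 2 n34
theorem D44 : act 2 n34 = n44 := rfl
theorem F73 : act 0 n44 = n35 := d1_1 D44 (iv D35) D34
theorem F74 : act 3 n44 = n42 := d7_2 (iv F57) D44 (iv D42) F53 (iv F38)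
theorem F75 : act 1 n44 = n41 := d11_4 D24 D34 F56 D44 (iv D41) (iv D30) (iv D18) (iv D8) D6 F12 D15 F21 (iv F16)
def n45 : Q := act 4 n35
theorem D45 : act 4 n35 = n45 := rfl
theorem F76 : act 3 n45 = n43 := d9_1 D45 (iv D43) (iv F60)
theorem F77 : act 1 n43 = n45 := d10_12 (iv D45) (iv D35) F35 (iv D21) (iv D9) F10 D9 D21 (iv F35) D35 D45 F76
def n46 : Q := act 1 n36
theorem D46 : act 1 n36 = n46 := rfl
theorem F78 : act 0 n46 = n46 := d0_1 D46 (iv D46) F61 F44 (iv F61)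
theorem F79 : act 3 n46 = n46 := d5_2 F62 D46 (iv D46)
def n47 : Q := act 4 n36
theorem D47 : act 4 n36 = n47 := rfl
theorem F80 : act 0 n47 = n47 := d3_1 D47 (iv D47) F61 F46 (iv F61)
theorem F81 : act 3 n47 = n47 := d9_1 D47 (iv D47) F62
def n48 : Q := act 1 n37
theorem D48 : act 1 n37 = n48 := rfl
theorem F82 : act 0 n48 = n39 := d0_1 D48 (iv D39) F50 (iv F49) (iv F63)
theorem F83 : act 2 n48 = n39 := d4_2 D37 D48 (iv D39) (iv D30) (iv F47)
def n49 : Q := act 3 n37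
theorem D49 : act 3 n37 = n49 := rfl
theorem F84 : act 0 n49 = n38 := d2_1 D49 (iv D38) (iv F63)
theorem F85 : act 2 n49 = n40 := d7_1 D49 (iv D40) (iv D30) (iv F48) D37
def n50 : Q := act 4 n37
theorem D50 : act 4 n37 = n50 := rfl
def n51 : Q := act 3 n39
theorem D51 : act 3 n39 = n51 := rfl
theorem F86 : act 1 n51 = n40 := d5_1 D51 (iv D40) D39
theorem F87 : act 4 n51 = n44 := d9_2 (iv F71) D51 F74
def n52 : Q := act 4 n40
theorem D52 : act 4 n40 = n52 := rfl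
theorem F88 : act 0 n52 = n52 := d3_1 D52 (iv D52) F67 F51 (iv F67)
theorem F89 : act 1 n52 = n42 := d6_1 D52 (iv F71) (iv D39) D41 (iv F75) (iv F87) F86
theorem F90 : act 3 n52 = n41 := d9_1 D52 (iv D41) D40
theorem F91 : act 2 n52 = n46 := d10_1 D52 (iv D46) F62 (iv D36) (iv D26) F20 D26 (iv F52) D42 (iv F71) D51 F86
def n53 : Q := act 0 n43
theorem D53 : act 0 n43 = n53 := rfl
theorem F92 : act 2 n53 = n53 := d1_2 F72 D53 (iv D53)
theorem F93 : act 4 n53 = n48 := d3_2 D43 D53 F82 F71 F70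
def n54 : Q := act 0 n45
theorem D54 : act 0 n45 = n54 := rfl
theorem F94 : act 3 n54 = n53 := d2_2 (iv F76) D54 (iv D53)
theorem F95 : act 1 n54 = n50 := d10_12 (iv D50) (iv D37) F47 (iv F48) D37 D49 F85 (iv D40) D39 (iv F83) (iv F93) (iv F94)
def n55 : Q := act 2 n45
theorem D55 : act 2 n45 = n55 := rfl
theorem F96 : act 1 n55 = n55 := d4_1 D55 (iv D55) (iv F77) F72 F77
theorem F97 : act 3 n55 = n55 := d7_2 (iv F76) D55 (iv D55) F76 F72
theorem F98 : act 4 n55 = n55 := d8_2 D45 D55 (iv D55) (iv D45) (iv D35) (iv D24) F17 D24 D35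
def n56 : Q := act 4 n46
theorem D56 : act 4 n46 = n56 := rfl
theorem F99 : act 3 n56 = n56 := d9_1 D56 (iv D56) F79
theorem F100 : act 1 n56 = n47 := d10_12 (iv D47) (iv D36) (iv F52) F53 (iv F38) (iv F57) D44 F74 (iv F89) F91 D56 F99
theorem F101 : act 0 n56 = n55 := d11_1 D56 F96 (iv D55) (iv F77) (iv D43) (iv D33) D32 F54 F52 D36 F62 D46 F78
theorem F102 : act 2 n56 = n54 := d11_6 D22 D32 F52 D36 D46 D56 (iv D54) (iv D45) F59 (iv D35) F36 F18 F14
def n57 : Q := act 2 n47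
theorem D57 : act 2 n47 = n57 := rfl
theorem F103 : act 0 n57 = n57 := d1_1 D57 (iv D57) F80
theorem F104 : act 4 n57 = n57 := d8_2 D47 D57 (iv D57) (iv D47) (iv D36) (iv F43) F20 F43 D36
def n58 : Q := act 3 n48
theorem D58 : act 3 n48 = n58 := rfl
theorem F105 : act 0 n58 = n51 := d2_1 D58 (iv D51) (iv F82)
theorem F106 : act 1 n58 = n49 := d5_1 D58 (iv D49) D48
theorem F107 : act 4 n58 = n54 := d9_2 F93 D58 F94
def n59 : Q := act 4 n49
theorem D59 : act 4 n49 = n59 := rfl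
theorem F108 : act 0 n59 = n50 := d3_1 D59 (iv D50) F63 (iv F66) (iv F84)
theorem F109 : act 1 n59 = n53 := d6_1 D59 F93 (iv D48) D50 (iv F95) (iv F107) F106
theorem F110 : act 3 n59 = n50 := d9_1 D59 (iv D50) D49
def n60 : Q := act 2 n50
theorem D60 : act 2 n50 = n60 := rfl
theorem F111 : act 1 n60 = n57 := d4_1 D60 (iv D57) (iv F100) F102 F95
def n61 : Q := act 2 n51
theorem D61 : act 2 n51 = n61 := rfl
def n62 : Q := act 3 n57
theorem D62 : act 3 n57 = n62 := rfl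
theorem F112 : act 0 n62 = n62 := d2_1 D62 (iv D62) F103
theorem F113 : act 2 n62 = n62 := d7_1 D62 (iv D62) (iv D57) F81 D57
theorem F114 : act 4 n62 = n62 := d9_2 F104 D62 (iv D62)
def n63 : Q := act 2 n58
theorem D63 : act 2 n58 = n63 := rfl
theorem F115 : act 0 n63 = n61 := d1_1 D63 (iv D61) (iv F105)
theorem F116 : act 1 n63 = n61 := d4_1 D63 (iv D61) F86 (iv F85) (iv F106)
theorem F117 : act 3 n63 = n61 := d7_2 D58 D63 (iv D61) (iv D51) (iv F83)
def n64 : Q := act 2 n59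
theorem D64 : act 2 n59 = n64 := rfl
theorem F118 : act 0 n64 = n60 := d1_1 D64 (iv D60) (iv F108)
theorem F119 : act 1 n64 = n64 := d4_1 D64 (iv D64) F109 F92 (iv F109)
theorem F120 : act 4 n64 = n63 := d8_2 D59 D64 (iv D63) F107 (iv F102) (iv D56) (iv F91) (iv D52) (iv F85)
def n65 : Q := act 3 n60
theorem D65 : act 3 n60 = n65 := rfl
theorem F121 : act 1 n65 = n62 := d5_1 D65 (iv D62) (iv F111)
theorem F122 : act 4 n60 = n65 := d10_10 F104 (iv D57) (iv F100) F99 F102 F94 F92 (iv F94) F95 D60 (iv D65) F111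
def n66 : Q := act 4 n61
theorem D66 : act 4 n61 = n66 := rfl
theorem F123 : act 0 n66 = n65 := d3_1 D66 (iv F122) (iv F118) F120 F115
theorem F124 : act 1 n66 = n66 := d6_1 D66 (iv D66) (iv F116) (iv F120) F119 F120 F116
theorem F125 : act 2 n66 = n65 := d8_1 D66 (iv F122) (iv D60) (iv D50) (iv D37) (iv F58) D44 (iv F87) D61
theorem F126 : act 3 n66 = n64 := d9_1 D66 F120 F117

end Cfsg.Agent.Helper17.M11PTC
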