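import Cfsg.Agent.Helper17.M11PTC.Final

set_option autoImplicit false
set_option linter.all false
set_option maxRecDepth 100000

noncomputable section

namespace Cfsg.Agent.Helper17.M11PTC

theorem N1 : nd 1 = n1 := ndS (p := 0) (l := 4) rfl N0 D1
theorem N2 : nd 2 = n2 := ndS (p := 1) (l := 0) rfl N1 D2
theorem N3 : nd 3 = n3 := ndS (p := 1) (l := 2) rfl N1 D3
theorem N4 : nd 4 = n4 := ndS (p := 2) (l := 1) rfl N2 D4
theorem N5 : nd 5 = n5 := ndS (p := 2) (l := 2) rfl N2 D5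
theorem N6 : nd 6 = n6 := ndS (p := 3) (l := 1) rfl N3 D6
theorem N7 : nd 7 = n7 := ndS (p := 3) (l := 3) rfl N3 D7
theorem N8 : nd 8 = n8 := ndS (p := 3) (l := 4) rfl N3 D8
theorem N9 : nd 9 = n9 := ndS (p := 4) (l := 2) rfl N4 D9
theorem N10 : nd 10 = n11 := ndS (p := 5) (l := 1) rfl N5 D11
theorem N11 : nd 11 = n12 := ndS (p := 5) (l := 3) rfl N5 D12
theorem N12 : nd 12 = n13 := ndS (p := 5) (l := 4) rfl N5 D13
theorem N13 : nd 13 = n14 := ndS (p := 6) (l := 0) rfl N6 D14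
theorem N14 : nd 14 = n15 := ndS (p := 6) (l := 3) rfl N6 D15
theorem N15 : nd 15 = n16 := ndS (p := 6) (l := 4) rfl N6 D16
theorem N16 : nd 16 = n17 := ndS (p := 7) (l := 4) rfl N7 D17
theorem N17 : nd 17 = n18 := ndS (p := 8) (l := 0) rfl N8 D18
theorem N18 : nd 18 = n19 := ndS (p := 8) (l := 1) rfl N8 D19
theorem N19 : nd 19 = n20 := ndS (p := 8) (l := 2) rfl N8 D20
theorem N20 : nd 20 = n21 := ndS (p := 9) (l := 3) rfl N9 D21
theorem N21 : nd 21 = n22 := ndS (p := 9) (l := 4) rfl N9 D22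
theorem N22 : nd 22 = n23 := ndS (p := 10) (l := 0) rfl N10 D23
theorem N23 : nd 23 = n24 := ndS (p := 11) (l := 4) rfl N11 D24
theorem N24 : nd 24 = n25 := ndS (p := 12) (l := 0) rfl N12 D25
theorem N25 : nd 25 = n26 := ndS (p := 13) (l := 3) rfl N13 D26
theorem N26 : nd 26 = n27 := ndS (p := 14) (l := 2) rfl N14 D27
theorem N27 : nd 27 = n28 := ndS (p := 16) (l := 0) rfl N16 D28
theorem N28 : nd 28 = n29 := ndS (p := 16) (l := 2) rfl N16 D29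
theorem N29 : nd 29 = n30 := ndS (p := 17) (l := 2) rfl N17 D30
theorem N30 : nd 30 = n31 := ndS (p := 19) (l := 3) rfl N19 D31
theorem N31 : nd 31 = n32 := ndS (p := 21) (l := 0) rfl N21 D32
theorem N32 : nd 32 = n33 := ndS (p := 21) (l := 2) rfl N21 D33
theorem N33 : nd 33 = n34 := ndS (p := 23) (l := 0) rfl N23 D34
theorem N34 : nd 34 = n35 := ndS (p := 23) (l := 2) rfl N23 D35
theorem N35 : nd 35 = n36 := ndS (p := 25) (l := 2) rfl N25 D36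
theorem N36 : nd 36 = n37 := ndS (p := 27) (l := 2) rfl N27 D37
theorem N37 : nd 37 = n38 := ndS (p := 28) (l := 3) rfl N28 D38
theorem N38 : nd 38 = n39 := ndS (p := 29) (l := 1) rfl N29 D39
theorem N39 : nd 39 = n40 := ndS (p := 29) (l := 3) rfl N29 D40
theorem N40 : nd 40 = n41 := ndS (p := 29) (l := 4) rfl N29 D41
theorem N41 : nd 41 = n42 := ndS (p := 31) (l := 2) rfl N31 D42
theorem N42 : nd 42 = n43 := ndS (p := 32) (l := 4) rfl N32 D43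
theorem N43 : nd 43 = n44 := ndS (p := 33) (l := 2) rfl N33 D44
theorem N44 : nd 44 = n45 := ndS (p := 34) (l := 4) rfl N34 D45
theorem N45 : nd 45 = n46 := ndS (p := 35) (l := 1) rfl N35 D46
theorem N46 : nd 46 = n47 := ndS (p := 35) (l := 4) rfl N35 D47
theorem N47 : nd 47 = n48 := ndS (p := 36) (l := 1) rfl N36 D48
theorem N48 : nd 48 = n49 := ndS (p := 36) (l := 3) rfl N36 D49
theorem N49 : nd 49 = n50 := ndS (p := 36) (l := 4) rfl N36 D50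
theorem N50 : nd 50 = n51 := ndS (p := 38) (l := 3) rfl N38 D51
theorem N51 : nd 51 = n52 := ndS (p := 39) (l := 4) rfl N39 D52
theorem N52 : nd 52 = n53 := ndS (p := 42) (l := 0) rfl N42 D53
theorem N53 : nd 53 = n54 := ndS (p := 44) (l := 0) rfl N44 D54
theorem N54 : nd 54 = n55 := ndS (p := 44) (l := 2) rfl N44 D55
theorem N55 : nd 55 = n56 := ndS (p := 45) (l := 4) rfl N45 D56
theorem N56 : nd 56 = n57 := ndS (p := 46) (l := 2) rfl N46 D57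
theorem N57 : nd 57 = n58 := ndS (p := 47) (l := 3) rfl N47 D58
theorem N58 : nd 58 = n59 := ndS (p := 48) (l := 4) rfl N48 D59
theorem N59 : nd 59 = n60 := ndS (p := 49) (l := 2) rfl N49 D60
theorem N60 : nd 60 = n61 := ndS (p := 50) (l := 2) rfl N50 D61
theorem N61 : nd 61 = n62 := ndS (p := 56) (l := 3) rfl N56 D62
theorem N62 : nd 62 = n63 := ndS (p := 57) (l := 2) rfl N57 D63
theorem N63 : nd 63 = n64 := ndS (p := 58) (l := 2) rfl N58 D64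
theorem N64 : nd 64 = n65 := ndS (p := 59) (l := 3) rfl N59 D65
theorem N65 : nd 65 = n66 := ndS (p := 60) (l := 4) rfl N60 D66
theorem Q1 : ∀ i, i < 1 → P i := stepQ 0 Q0 (allL N0 (tt N0 F1) (tt N0 F2) (tt N0 F3) (tt N0 F4) (tt N1 D1))
theorem Q2 : ∀ i, i < 2 → P i := stepQ 1 Q1 (allL N1 (tt N2 D2) (tt N1 F6) (tt N3 D3) (tt N1 F5) (tt N0 (iv D1)))
theorem Q3 : ∀ i, i < 3 → P i := stepQ 2 Q2 (allL N2 (tt N1 (iv D2)) (tt N4 D4) (tt N5 D5) (tt N2 F7) (tt N2 F8))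
theorem Q4 : ∀ i, i < 4 → P i := stepQ 3 Q3 (allL N3 (tt N5 (iv F11)) (tt N6 D6) (tt N1 (iv D3)) (tt N7 D7) (tt N8 D8))
theorem Q5 : ∀ i, i < 5 → P i := stepQ 4 Q4 (allL N4 (tt N4 F9) (tt N2 (iv D4)) (tt N9 D9) (tt N4 F10) (tt N4 F30))
theorem Q6 : ∀ i, i < 6 → P i := stepQ 5 Q5 (allL N5 (tt N3 F11) (tt N10 D11) (tt N2 (iv D5)) (tt N11 D12) (tt N12 D13))
theorem Q7 : ∀ i, i < 7 → P i := stepQ 6 Q6 (allL N6 (tt N13 D14) (tt N3 (iv D6)) (tt N6 F12) (tt N14 D15) (tt N15 D16))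
theorem Q8 : ∀ i, i < 8 → P i := stepQ 7 Q7 (allL N7 (tt N11 (iv F16)) (tt N14 (iv F21)) (tt N7 F13) (tt N3 (iv D7)) (tt N16 D17))
theorem Q9 : ∀ i, i < 9 → P i := stepQ 8 Q8 (allL N8 (tt N17 D18) (tt N18 D19) (tt N19 D20) (tt N16 (iv F22)) (tt N3 (iv D8)))
theorem Q10 : ∀ i, i < 10 → P i := stepQ 9 Q9 (allL N9 (tt N9 F14) (tt N12 (iv F18)) (tt N4 (iv D9)) (tt N20 D21) (tt N21 D22))
theorem Q11 : ∀ i, i < 11 → P i := stepQ 10 Q10 (allL N10 (tt N22 D23) (tt N5 (iv D11)) (tt N12 F19) (tt N21 (iv F31)) (tt N20 F29))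
theorem Q12 : ∀ i, i < 12 → P i := stepQ 11 Q11 (allL N11 (tt N7 F16) (tt N21 F32) (tt N11 F17) (tt N5 (iv D12)) (tt N23 D24))
theorem Q13 : ∀ i, i < 13 → P i := stepQ 12 Q12 (allL N12 (tt N24 D25) (tt N9 F18) (tt N10 (iv F19)) (tt N23 (iv F36)) (tt N5 (iv D13)))
theorem Q14 : ∀ i, i < 14 → P i := stepQ 13 Q13 (allL N13 (tt N6 (iv D14)) (tt N22 (iv F33)) (tt N13 F20) (tt N25 D26) (tt N25 F43))
theorem Q15 : ∀ i, i < 15 → P i := stepQ 14 Q14 (allL N14 (tt N25 (iv F42)) (tt N7 F21) (tt N26 D27) (tt N6 (iv D15)) (tt N18 (iv F25)))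
theorem Q16 : ∀ i, i < 16 → P i := stepQ 15 Q15 (allL N15 (tt N18 (iv F41)) (tt N16 (iv F23)) (tt N18 (iv F40)) (tt N18 (iv F24)) (tt N6 (iv D16)))
theorem Q17 : ∀ i, i < 17 → P i := stepQ 16 Q16 (allL N16 (tt N27 D28) (tt N15 F23) (tt N28 D29) (tt N8 F22) (tt N7 (iv D17)))
theorem Q18 : ∀ i, i < 18 → P i := stepQ 17 Q17 (allL N17 (tt N8 (iv D18)) (tt N27 (iv F47)) (tt N29 D30) (tt N27 (iv F48)) (tt N24 (iv F39)))
theorem Q19 : ∀ i, i < 19 → P i := stepQ 18 Q18 (allL N18 (tt N15 F41) (tt N8 (iv D19)) (tt N15 F40) (tt N15 F24) (tt N14 F25))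
theorem Q20 : ∀ i, i < 20 → P i := stepQ 19 Q19 (allL N19 (tt N29 (iv F50)) (tt N28 (iv F49)) (tt N8 (iv D20)) (tt N30 D31) (tt N19 F26))
theorem Q21 : ∀ i, i < 21 → P i := stepQ 20 Q20 (allL N20 (tt N20 F27) (tt N23 (iv F35)) (tt N20 F28) (tt N9 (iv D21)) (tt N10 (iv F29)))
theorem Q22 : ∀ i, i < 22 → P i := stepQ 21 Q21 (allL N21 (tt N31 D32) (tt N11 (iv F32)) (tt N32 D33) (tt N10 F31) (tt N9 (iv D22)))
theorem Q23 : ∀ i, i < 23 → P i := stepQ 22 Q22 (allL N22 (tt N10 (iv D23)) (tt N13 F33) (tt N24 (iv F38)) (tt N31 (iv F53)) (tt N22 F34))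
theorem Q24 : ∀ i, i < 24 → P i := stepQ 23 Q23 (allL N23 (tt N33 D34) (tt N20 F35) (tt N34 D35) (tt N12 F36) (tt N11 (iv D24)))
theorem Q25 : ∀ i, i < 25 → P i := stepQ 24 Q24 (allL N24 (tt N12 (iv D25)) (tt N24 F37) (tt N22 F38) (tt N33 (iv F57)) (tt N17 F39))
theorem Q26 : ∀ i, i < 26 → P i := stepQ 25 Q25 (allL N25 (tt N14 F42) (tt N31 (iv F52)) (tt N35 D36) (tt N13 (iv D26)) (tt N13 (iv F43)))
theorem Q27 : ∀ i, i < 27 → P i := stepQ 26 Q26 (allL N26 (tt N35 (iv F61)) (tt N26 F44) (tt N14 (iv D27)) (tt N26 F45) (tt N26 F46))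
theorem Q28 : ∀ i, i < 28 → P i := stepQ 27 Q27 (allL N27 (tt N16 (iv D28)) (tt N17 F47) (tt N36 D37) (tt N17 F48) (tt N33 (iv F58)))
theorem Q29 : ∀ i, i < 29 → P i := stepQ 28 Q28 (allL N28 (tt N36 (iv F63)) (tt N19 F49) (tt N16 (iv D29)) (tt N37 D38) (tt N37 (iv F66)))
theorem Q30 : ∀ i, i < 30 → P i := stepQ 29 Q29 (allL N29 (tt N19 F50) (tt N38 D39) (tt N17 (iv D30)) (tt N39 D40) (tt N40 D41))
theorem Q31 : ∀ i, i < 31 → P i := stepQ 30 Q30 (allL N30 (tt N39 (iv F67)) (tt N37 (iv F64)) (tt N37 (iv F65)) (tt N19 (iv D31)) (tt N30 F51))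
theorem Q32 : ∀ i, i < 32 → P i := stepQ 31 Q31 (allL N31 (tt N21 (iv D32)) (tt N25 F52) (tt N41 D42) (tt N22 F53) (tt N31 F54))
theorem Q33 : ∀ i, i < 33 → P i := stepQ 32 Q32 (allL N32 (tt N41 (iv F70)) (tt N32 F55) (tt N21 (iv D33)) (tt N34 (iv F60)) (tt N42 D43))
theorem Q34 : ∀ i, i < 34 → P i := stepQ 33 Q33 (allL N33 (tt N23 (iv D34)) (tt N33 F56) (tt N43 D44) (tt N24 F57) (tt N27 F58))
theorem Q35 : ∀ i, i < 35 → P i := stepQ 34 Q34 (allL N34 (tt N43 (iv F73)) (tt N34 F59) (tt N23 (iv D35)) (tt N32 F60) (tt N44 D45))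
theorem Q36 : ∀ i, i < 36 → P i := stepQ 35 Q35 (allL N35 (tt N26 F61) (tt N45 D46) (tt N25 (iv D36)) (tt N35 F62) (tt N46 D47))
theorem Q37 : ∀ i, i < 37 → P i := stepQ 36 Q36 (allL N36 (tt N28 F63) (tt N47 D48) (tt N27 (iv D37)) (tt N48 D49) (tt N49 D50))
theorem Q38 : ∀ i, i < 38 → P i := stepQ 37 Q37 (allL N37 (tt N48 (iv F84)) (tt N30 F64) (tt N30 F65) (tt N28 (iv D38)) (tt N28 F66))
theorem Q39 : ∀ i, i < 39 → P i := stepQ 38 Q38 (allL N38 (tt N47 (iv F82)) (tt N29 (iv D39)) (tt N47 (iv F83)) (tt N50 D51) (tt N41 F71))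
theorem Q40 : ∀ i, i < 40 → P i := stepQ 39 Q39 (allL N39 (tt N30 F67) (tt N50 (iv F86)) (tt N48 (iv F85)) (tt N29 (iv D40)) (tt N51 D52))
theorem Q41 : ∀ i, i < 41 → P i := stepQ 40 Q40 (allL N40 (tt N40 F68) (tt N43 (iv F75)) (tt N40 F69) (tt N51 (iv F90)) (tt N29 (iv D41)))
theorem Q42 : ∀ i, i < 42 → P i := stepQ 41 Q41 (allL N41 (tt N32 F70) (tt N51 (iv F89)) (tt N31 (iv D42)) (tt N43 (iv F74)) (tt N38 (iv F71)))
theorem Q43 : ∀ i, i < 43 → P i := stepQ 42 Q42 (allL N42 (tt N52 D53) (tt N44 F77) (tt N42 F72) (tt N44 (iv F76)) (tt N32 (iv D43)))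
theorem Q44 : ∀ i, i < 44 → P i := stepQ 43 Q43 (allL N43 (tt N34 F73) (tt N40 F75) (tt N33 (iv D44)) (tt N41 F74) (tt N50 (iv F87)))
theorem Q45 : ∀ i, i < 45 → P i := stepQ 44 Q44 (allL N44 (tt N53 D54) (tt N42 (iv F77)) (tt N54 D55) (tt N42 F76) (tt N34 (iv D45)))
theorem Q46 : ∀ i, i < 46 → P i := stepQ 45 Q45 (allL N45 (tt N45 F78) (tt N35 (iv D46)) (tt N51 (iv F91)) (tt N45 F79) (tt N55 D56))
theorem Q47 : ∀ i, i < 47 → P i := stepQ 46 Q46 (allL N46 (tt N46 F80) (tt N55 (iv F100)) (tt N56 D57) (tt N46 F81) (tt N35 (iv D47)))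
theorem Q48 : ∀ i, i < 48 → P i := stepQ 47 Q47 (allL N47 (tt N38 F82) (tt N36 (iv D48)) (tt N38 F83) (tt N57 D58) (tt N52 (iv F93)))
theorem Q49 : ∀ i, i < 49 → P i := stepQ 48 Q48 (allL N48 (tt N37 F84) (tt N57 (iv F106)) (tt N39 F85) (tt N36 (iv D49)) (tt N58 D59))
theorem Q50 : ∀ i, i < 50 → P i := stepQ 49 Q49 (allL N49 (tt N58 (iv F108)) (tt N53 (iv F95)) (tt N59 D60) (tt N58 (iv F110)) (tt N36 (iv D50)))
theorem Q51 : ∀ i, i < 51 → P i := stepQ 50 Q50 (allL N50 (tt N57 (iv F105)) (tt N39 F86) (tt N60 D61) (tt N38 (iv D51)) (tt N43 F87))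
theorem Q52 : ∀ i, i < 52 → P i := stepQ 51 Q51 (allL N51 (tt N51 F88) (tt N41 F89) (tt N45 F91) (tt N40 F90) (tt N39 (iv D52)))
theorem Q53 : ∀ i, i < 53 → P i := stepQ 52 Q52 (allL N52 (tt N42 (iv D53)) (tt N58 (iv F109)) (tt N52 F92) (tt N53 (iv F94)) (tt N47 F93))
theorem Q54 : ∀ i, i < 54 → P i := stepQ 53 Q53 (allL N53 (tt N44 (iv D54)) (tt N49 F95) (tt N55 (iv F102)) (tt N52 F94) (tt N57 (iv F107)))
theorem Q55 : ∀ i, i < 55 → P i := stepQ 54 Q54 (allL N54 (tt N55 (iv F101)) (tt N54 F96) (tt N44 (iv D55)) (tt N54 F97) (tt N54 F98))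
theorem Q56 : ∀ i, i < 56 → P i := stepQ 55 Q55 (allL N55 (tt N54 F101) (tt N46 F100) (tt N53 F102) (tt N55 F99) (tt N45 (iv D56)))
theorem Q57 : ∀ i, i < 57 → P i := stepQ 56 Q56 (allL N56 (tt N56 F103) (tt N59 (iv F111)) (tt N46 (iv D57)) (tt N61 D62) (tt N56 F104))
theorem Q58 : ∀ i, i < 58 → P i := stepQ 57 Q57 (allL N57 (tt N50 F105) (tt N48 F106) (tt N62 D63) (tt N47 (iv D58)) (tt N53 F107))
theorem Q59 : ∀ i, i < 59 → P i := stepQ 58 Q58 (allL N58 (tt N49 F108) (tt N52 F109) (tt N63 D64) (tt N49 F110) (tt N48 (iv D59)))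
theorem Q60 : ∀ i, i < 60 → P i := stepQ 59 Q59 (allL N59 (tt N63 (iv F118)) (tt N56 F111) (tt N49 (iv D60)) (tt N64 D65) (tt N64 F122))
theorem Q61 : ∀ i, i < 61 → P i := stepQ 60 Q60 (allL N60 (tt N62 (iv F115)) (tt N62 (iv F116)) (tt N50 (iv D61)) (tt N62 (iv F117)) (tt N65 D66))
theorem Q62 : ∀ i, i < 62 → P i := stepQ 61 Q61 (allL N61 (tt N61 F112) (tt N64 (iv F121)) (tt N61 F113) (tt N56 (iv D62)) (tt N61 F114))
theorem Q63 : ∀ i, i < 63 → P i := stepQ 62 Q62 (allL N62 (tt N60 F115) (tt N60 F116) (tt N57 (iv D63)) (tt N60 F117) (tt N63 (iv F120)))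
theorem Q64 : ∀ i, i < 64 → P i := stepQ 63 Q63 (allL N63 (tt N59 F118) (tt N63 F119) (tt N58 (iv D64)) (tt N65 (iv F126)) (tt N62 F120))
theorem Q65 : ∀ i, i < 65 → P i := stepQ 64 Q64 (allL N64 (tt N65 (iv F123)) (tt N61 F121) (tt N65 (iv F125)) (tt N59 (iv D65)) (tt N59 (iv F122)))
theorem Q66 : ∀ i, i < 66 → P i := stepQ 65 Q65 (allL N65 (tt N64 F123) (tt N65 F124) (tt N64 F125) (tt N63 F126) (tt N60 (iv D66)))

theorem closedN : ∀ i, i < N → P i := Q66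

end Cfsg.Agent.Helper17.M11PTC
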