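import Cfsg.Agent.Helper17.M11PTC.Base

set_option autoImplicit false
set_option linter.all false

noncomputable section

namespace Cfsg.Agent.Helper17.M11PTC

theorem c11_1 {p0 p1 q1 q2 q3 q4 q5 q6 q7 q8 q9 q10 q11 q12 q13 : Q} (h0 : act 4 p0 = p1) (h1 : act 0 q1 = q2) (h2 : act 1 q2 = q3) (h3 : act 2 q3 = q4) (h4 : act 1 q4 = q5) (h5 : act 4 q5 = q6) (h6 : act 2 q6 = q7) (h7 : act 0 q7 = q8) (h8 : act 4 q8 = q9) (h9 : act 1 q9 = q10) (h10 : act 2 q10 = q11) (h11 : act 3 q11 = q12) (h12 : act 1 q12 = q13) (h13 : act 0 q13 = p0) : p1 = q1 := by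
  have hr := R11 p0
  subst h0
  subst h13
  subst h12
  subst h11
  subst h10
  subst h9
  subst h8
  subst h7
  subst h6
  subst h5
  subst h4
  subst h3
  subst h2
  subst h1
  exact ij (ij (ij (ij (ij (ij (ij (ij (ij (ij (ij (ij (ij (hr)))))))))))))

theorem d0_1 {p0 p1 q2 q3 q4 q5 : Q} (h0 : act 1 p0 = p1) (h2 : act 1 q2 = q3) (h3 : act 0 q3 = q4) (h4 : act 1 q4 = q5) (h5 : act 0 q5 = p0) : act 0 p1 = q2 := by
  have hr := R0 p0
  subst h0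
  subst h5
  subst h4
  subst h3
  subst h2
  exact ij (ij (ij (ij (hr))))

theorem d0_2 {p0 p1 p2 q3 q4 q5 : Q} (h0 : act 1 p0 = p1) (h1 : act 0 p1 = p2) (h3 : act 0 q3 = q4) (h4 : act 1 q4 = q5) (h5 : act 0 q5 = p0) : act 1 p2 = q3 := by
  have hr := R0 p0
  subst h0
  subst h1
  subst h5
  subst h4
  subst h3
  exact ij (ij (ij (hr)))

theorem d1_1 {p0 p1 q2 q3 : Q} (h0 : act 2 p0 = p1) (h2 : act 2 q2 = q3) (h3 : act 0 q3 = p0) : act 0 p1 = q2 := by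
  have hr := R1 p0
  subst h0
  subst h3
  subst h2
  exact ij (ij (hr))

theorem d1_2 {p0 p1 p2 q3 : Q} (h0 : act 2 p0 = p1) (h1 : act 0 p1 = p2) (h3 : act 0 q3 = p0) : act 2 p2 = q3 := by
  have hr := R1 p0
  subst h0
  subst h1
  subst h3
  exact ij (hr)

theorem d2_1 {p0 p1 q2 q3 : Q} (h0 : act 3 p0 = p1) (h2 : act 3 q2 = q3) (h3 : act 0 q3 = p0) : act 0 p1 = q2 := by
  have hr := R2 p0
  subst h0
  subst h3
  subst h2
  exact ij (ij (hr))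

theorem d2_2 {p0 p1 p2 q3 : Q} (h0 : act 3 p0 = p1) (h1 : act 0 p1 = p2) (h3 : act 0 q3 = p0) : act 3 p2 = q3 := by
  have hr := R2 p0
  subst h0
  subst h1
  subst h3
  exact ij (hr)

theorem d3_0 {p0 q1 q2 q3 q4 q5 : Q} (h1 : act 0 q1 = q2) (h2 : act 4 q2 = q3) (h3 : act 0 q3 = q4) (h4 : act 4 q4 = q5) (h5 : act 0 q5 = p0) : act 4 p0 = q1 := by
  have hr := R3 p0
  subst h5
  subst h4
  subst h3
  subst h2
  subst h1
  exact ij (ij (ij (ij (ij (hr)))))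

theorem d3_1 {p0 p1 q2 q3 q4 q5 : Q} (h0 : act 4 p0 = p1) (h2 : act 4 q2 = q3) (h3 : act 0 q3 = q4) (h4 : act 4 q4 = q5) (h5 : act 0 q5 = p0) : act 0 p1 = q2 := by
  have hr := R3 p0
  subst h0
  subst h5
  subst h4
  subst h3
  subst h2
  exact ij (ij (ij (ij (hr))))

theorem d3_2 {p0 p1 p2 q3 q4 q5 : Q} (h0 : act 4 p0 = p1) (h1 : act 0 p1 = p2) (h3 : act 0 q3 = q4) (h4 : act 4 q4 = q5) (h5 : act 0 q5 = p0) : act 4 p2 = q3 := by
  have hr := R3 p0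
  subst h0
  subst h1
  subst h5
  subst h4
  subst h3
  exact ij (ij (ij (hr)))

theorem d4_0 {p0 q1 q2 q3 q4 q5 : Q} (h1 : act 1 q1 = q2) (h2 : act 2 q2 = q3) (h3 : act 1 q3 = q4) (h4 : act 2 q4 = q5) (h5 : act 1 q5 = p0) : act 2 p0 = q1 := by
  have hr := R4 p0
  subst h5
  subst h4
  subst h3
  subst h2
  subst h1
  exact ij (ij (ij (ij (ij (hr)))))

theorem d4_1 {p0 p1 q2 q3 q4 q5 : Q} (h0 : act 2 p0 = p1) (h2 : act 2 q2 = q3) (h3 : act 1 q3 = q4) (h4 : act 2 q4 = q5) (h5 : act 1 q5 = p0) : act 1 p1 = q2 := by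
  have hr := R4 p0
  subst h0
  subst h5
  subst h4
  subst h3
  subst h2
  exact ij (ij (ij (ij (hr))))

theorem d4_2 {p0 p1 p2 q3 q4 q5 : Q} (h0 : act 2 p0 = p1) (h1 : act 1 p1 = p2) (h3 : act 1 q3 = q4) (h4 : act 2 q4 = q5) (h5 : act 1 q5 = p0) : act 2 p2 = q3 := by
  have hr := R4 p0
  subst h0
  subst h1
  subst h5
  subst h4
  subst h3
  exact ij (ij (ij (hr)))

theorem d5_1 {p0 p1 q2 q3 : Q} (h0 : act 3 p0 = p1) (h2 : act 3 q2 = q3) (h3 : act 1 q3 = p0) : act 1 p1 = q2 := by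
  have hr := R5 p0
  subst h0
  subst h3
  subst h2
  exact ij (ij (hr))

theorem d5_2 {p0 p1 p2 q3 : Q} (h0 : act 3 p0 = p1) (h1 : act 1 p1 = p2) (h3 : act 1 q3 = p0) : act 3 p2 = q3 := by
  have hr := R5 p0
  subst h0
  subst h1
  subst h3
  exact ij (hr)

theorem d6_1 {p0 p1 q2 q3 q4 q5 q6 q7 : Q} (h0 : act 4 p0 = p1) (h2 : act 4 q2 = q3) (h3 : act 1 q3 = q4) (h4 : act 4 q4 = q5) (h5 : act 1 q5 = q6) (h6 : act 4 q6 = q7) (h7 : act 1 q7 = p0) : act 1 p1 = q2 := by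
  have hr := R6 p0
  subst h0
  subst h7
  subst h6
  subst h5
  subst h4
  subst h3
  subst h2
  exact ij (ij (ij (ij (ij (ij (hr))))))

theorem d6_2 {p0 p1 p2 q3 q4 q5 q6 q7 : Q} (h0 : act 4 p0 = p1) (h1 : act 1 p1 = p2) (h3 : act 1 q3 = q4) (h4 : act 4 q4 = q5) (h5 : act 1 q5 = q6) (h6 : act 4 q6 = q7) (h7 : act 1 q7 = p0) : act 4 p2 = q3 := by
  have hr := R6 p0
  subst h0
  subst h1
  subst h7
  subst h6
  subst h5
  subst h4
  subst h3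
  exact ij (ij (ij (ij (ij (hr)))))

theorem d7_1 {p0 p1 q2 q3 q4 q5 : Q} (h0 : act 3 p0 = p1) (h2 : act 3 q2 = q3) (h3 : act 2 q3 = q4) (h4 : act 3 q4 = q5) (h5 : act 2 q5 = p0) : act 2 p1 = q2 := by
  have hr := R7 p0
  subst h0
  subst h5
  subst h4
  subst h3
  subst h2
  exact ij (ij (ij (ij (hr))))

theorem d7_2 {p0 p1 p2 q3 q4 q5 : Q} (h0 : act 3 p0 = p1) (h1 : act 2 p1 = p2) (h3 : act 2 q3 = q4) (h4 : act 3 q4 = q5) (h5 : act 2 q5 = p0) : act 3 p2 = q3 := by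
  have hr := R7 p0
  subst h0
  subst h1
  subst h5
  subst h4
  subst h3
  exact ij (ij (ij (hr)))

theorem d8_1 {p0 p1 q2 q3 q4 q5 q6 q7 q8 q9 : Q} (h0 : act 4 p0 = p1) (h2 : act 4 q2 = q3) (h3 : act 2 q3 = q4) (h4 : act 4 q4 = q5) (h5 : act 2 q5 = q6) (h6 : act 4 q6 = q7) (h7 : act 2 q7 = q8) (h8 : act 4 q8 = q9) (h9 : act 2 q9 = p0) : act 2 p1 = q2 := by
  have hr := R8 p0
  subst h0
  subst h9
  subst h8
  subst h7
  subst h6
  subst h5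
  subst h4
  subst h3
  subst h2
  exact ij (ij (ij (ij (ij (ij (ij (ij (hr))))))))

theorem d8_2 {p0 p1 p2 q3 q4 q5 q6 q7 q8 q9 : Q} (h0 : act 4 p0 = p1) (h1 : act 2 p1 = p2) (h3 : act 2 q3 = q4) (h4 : act 4 q4 = q5) (h5 : act 2 q5 = q6) (h6 : act 4 q6 = q7) (h7 : act 2 q7 = q8) (h8 : act 4 q8 = q9) (h9 : act 2 q9 = p0) : act 4 p2 = q3 := by
  have hr := R8 p0
  subst h0
  subst h1
  subst h9
  subst h8
  subst h7
  subst h6
  subst h5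
  subst h4
  subst h3
  exact ij (ij (ij (ij (ij (ij (ij (hr)))))))

theorem d9_1 {p0 p1 q2 q3 : Q} (h0 : act 4 p0 = p1) (h2 : act 4 q2 = q3) (h3 : act 3 q3 = p0) : act 3 p1 = q2 := by
  have hr := R9 p0
  subst h0
  subst h3
  subst h2
  exact ij (ij (hr))

theorem d9_2 {p0 p1 p2 q3 : Q} (h0 : act 4 p0 = p1) (h1 : act 3 p1 = p2) (h3 : act 3 q3 = p0) : act 4 p2 = q3 := by
  have hr := R9 p0
  subst h0
  subst h1
  subst h3
  exact ij (hr)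

theorem d10_1 {p0 p1 q2 q3 q4 q5 q6 q7 q8 q9 q10 q11 q12 : Q} (h0 : act 4 p0 = p1) (h2 : act 1 q2 = q3) (h3 : act 3 q3 = q4) (h4 : act 2 q4 = q5) (h5 : act 3 q5 = q6) (h6 : act 2 q6 = q7) (h7 : act 3 q7 = q8) (h8 : act 1 q8 = q9) (h9 : act 2 q9 = q10) (h10 : act 4 q10 = q11) (h11 : act 3 q11 = q12) (h12 : act 1 q12 = p0) : act 2 p1 = q2 := by
  have hr := R10 p0
  subst h0
  subst h12
  subst h11
  subst h10
  subst h9
  subst h8
  subst h7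
  subst h6
  subst h5
  subst h4
  subst h3
  subst h2
  exact ij (ij (ij (ij (ij (ij (ij (ij (ij (ij (ij (hr)))))))))))

theorem d10_10 {p0 p1 p2 p3 p4 p5 p6 p7 p8 p9 p10 q11 q12 : Q} (h0 : act 4 p0 = p1) (h1 : act 2 p1 = p2) (h2 : act 1 p2 = p3) (h3 : act 3 p3 = p4) (h4 : act 2 p4 = p5) (h5 : act 3 p5 = p6) (h6 : act 2 p6 = p7) (h7 : act 3 p7 = p8) (h8 : act 1 p8 = p9) (h9 : act 2 p9 = p10) (h11 : act 3 q11 = q12) (h12 : act 1 q12 = p0) : act 4 p10 = q11 := by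
  have hr := R10 p0
  subst h0
  subst h1
  subst h2
  subst h3
  subst h4
  subst h5
  subst h6
  subst h7
  subst h8
  subst h9
  subst h12
  subst h11
  exact ij (ij (hr))

theorem d10_12 {p0 p1 p2 p3 p4 p5 p6 p7 p8 p9 p10 p11 p12 : Q} (h0 : act 4 p0 = p1) (h1 : act 2 p1 = p2) (h2 : act 1 p2 = p3) (h3 : act 3 p3 = p4) (h4 : act 2 p4 = p5) (h5 : act 3 p5 = p6) (h6 : act 2 p6 = p7) (h7 : act 3 p7 = p8) (h8 : act 1 p8 = p9) (h9 : act 2 p9 = p10) (h10 : act 4 p10 = p11) (h11 : act 3 p11 = p12) : act 1 p12 = p0 := by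
  have hr := R10 p0
  subst h0
  subst h1
  subst h2
  subst h3
  subst h4
  subst h5
  subst h6
  subst h7
  subst h8
  subst h9
  subst h10
  subst h11
  exact hr

theorem d11_1 {p0 p1 q2 q3 q4 q5 q6 q7 q8 q9 q10 q11 q12 q13 : Q} (h0 : act 4 p0 = p1) (h2 : act 1 q2 = q3) (h3 : act 2 q3 = q4) (h4 : act 1 q4 = q5) (h5 : act 4 q5 = q6) (h6 : act 2 q6 = q7) (h7 : act 0 q7 = q8) (h8 : act 4 q8 = q9) (h9 : act 1 q9 = q10) (h10 : act 2 q10 = q11) (h11 : act 3 q11 = q12) (h12 : act 1 q12 = q13) (h13 : act 0 q13 = p0) : act 0 p1 = q2 := by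
  have hr := R11 p0
  subst h0
  subst h13
  subst h12
  subst h11
  subst h10
  subst h9
  subst h8
  subst h7
  subst h6
  subst h5
  subst h4
  subst h3
  subst h2
  exact ij (ij (ij (ij (ij (ij (ij (ij (ij (ij (ij (ij (hr))))))))))))

theorem d11_3 {p0 p1 p2 p3 q4 q5 q6 q7 q8 q9 q10 q11 q12 q13 : Q} (h0 : act 4 p0 = p1) (h1 : act 0 p1 = p2) (h2 : act 1 p2 = p3) (h4 : act 1 q4 = q5) (h5 : act 4 q5 = q6) (h6 : act 2 q6 = q7) (h7 : act 0 q7 = q8) (h8 : act 4 q8 = q9) (h9 : act 1 q9 = q10) (h10 : act 2 q10 = q11) (h11 : act 3 q11 = q12) (h12 : act 1 q12 = q13) (h13 : act 0 q13 = p0) : act 2 p3 = q4 := by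
  have hr := R11 p0
  subst h0
  subst h1
  subst h2
  subst h13
  subst h12
  subst h11
  subst h10
  subst h9
  subst h8
  subst h7
  subst h6
  subst h5
  subst h4
  exact ij (ij (ij (ij (ij (ij (ij (ij (ij (ij (hr))))))))))

theorem d11_4 {p0 p1 p2 p3 p4 q5 q6 q7 q8 q9 q10 q11 q12 q13 : Q} (h0 : act 4 p0 = p1) (h1 : act 0 p1 = p2) (h2 : act 1 p2 = p3) (h3 : act 2 p3 = p4) (h5 : act 4 q5 = q6) (h6 : act 2 q6 = q7) (h7 : act 0 q7 = q8) (h8 : act 4 q8 = q9) (h9 : act 1 q9 = q10) (h10 : act 2 q10 = q11) (h11 : act 3 q11 = q12) (h12 : act 1 q12 = q13) (h13 : act 0 q13 = p0) : act 1 p4 = q5 := by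
  have hr := R11 p0
  subst h0
  subst h1
  subst h2
  subst h3
  subst h13
  subst h12
  subst h11
  subst h10
  subst h9
  subst h8
  subst h7
  subst h6
  subst h5
  exact ij (ij (ij (ij (ij (ij (ij (ij (ij (hr)))))))))

theorem d11_5 {p0 p1 p2 p3 p4 p5 q6 q7 q8 q9 q10 q11 q12 q13 : Q} (h0 : act 4 p0 = p1) (h1 : act 0 p1 = p2) (h2 : act 1 p2 = p3) (h3 : act 2 p3 = p4) (h4 : act 1 p4 = p5) (h6 : act 2 q6 = q7) (h7 : act 0 q7 = q8) (h8 : act 4 q8 = q9) (h9 : act 1 q9 = q10) (h10 : act 2 q10 = q11) (h11 : act 3 q11 = q12) (h12 : act 1 q12 = q13) (h13 : act 0 q13 = p0) : act 4 p5 = q6 := by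
  have hr := R11 p0
  subst h0
  subst h1
  subst h2
  subst h3
  subst h4
  subst h13
  subst h12
  subst h11
  subst h10
  subst h9
  subst h8
  subst h7
  subst h6
  exact ij (ij (ij (ij (ij (ij (ij (ij (hr))))))))

theorem d11_6 {p0 p1 p2 p3 p4 p5 p6 q7 q8 q9 q10 q11 q12 q13 : Q} (h0 : act 4 p0 = p1) (h1 : act 0 p1 = p2) (h2 : act 1 p2 = p3) (h3 : act 2 p3 = p4) (h4 : act 1 p4 = p5) (h5 : act 4 p5 = p6) (h7 : act 0 q7 = q8) (h8 : act 4 q8 = q9) (h9 : act 1 q9 = q10) (h10 : act 2 q10 = q11) (h11 : act 3 q11 = q12) (h12 : act 1 q12 = q13) (h13 : act 0 q13 = p0) : act 2 p6 = q7 := by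
  have hr := R11 p0
  subst h0
  subst h1
  subst h2
  subst h3
  subst h4
  subst h5
  subst h13
  subst h12
  subst h11
  subst h10
  subst h9
  subst h8
  subst h7
  exact ij (ij (ij (ij (ij (ij (ij (hr)))))))

theorem d11_7 {p0 p1 p2 p3 p4 p5 p6 p7 q8 q9 q10 q11 q12 q13 : Q} (h0 : act 4 p0 = p1) (h1 : act 0 p1 = p2) (h2 : act 1 p2 = p3) (h3 : act 2 p3 = p4) (h4 : act 1 p4 = p5) (h5 : act 4 p5 = p6) (h6 : act 2 p6 = p7) (h8 : act 4 q8 = q9) (h9 : act 1 q9 = q10) (h10 : act 2 q10 = q11) (h11 : act 3 q11 = q12) (h12 : act 1 q12 = q13) (h13 : act 0 q13 = p0) : act 0 p7 = q8 := by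
  have hr := R11 p0
  subst h0
  subst h1
  subst h2
  subst h3
  subst h4
  subst h5
  subst h6
  subst h13
  subst h12
  subst h11
  subst h10
  subst h9
  subst h8
  exact ij (ij (ij (ij (ij (ij (hr))))))

theorem d11_9 {p0 p1 p2 p3 p4 p5 p6 p7 p8 p9 q10 q11 q12 q13 : Q} (h0 : act 4 p0 = p1) (h1 : act 0 p1 = p2) (h2 : act 1 p2 = p3) (h3 : act 2 p3 = p4) (h4 : act 1 p4 = p5) (h5 : act 4 p5 = p6) (h6 : act 2 p6 = p7) (h7 : act 0 p7 = p8) (h8 : act 4 p8 = p9) (h10 : act 2 q10 = q11) (h11 : act 3 q11 = q12) (h12 : act 1 q12 = q13) (h13 : act 0 q13 = p0) : act 1 p9 = q10 := by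
  have hr := R11 p0
  subst h0
  subst h1
  subst h2
  subst h3
  subst h4
  subst h5
  subst h6
  subst h7
  subst h8
  subst h13
  subst h12
  subst h11
  subst h10
  exact ij (ij (ij (ij (hr))))

theorem d12_0 {p0 : Q} (hr : act 0 p0 = p0) : act 0 p0 = p0 := by
  exact hr

theorem d13_0 {p0 : Q} (hr : act 1 p0 = p0) : act 1 p0 = p0 := by
  exact hr

theorem d14_0 {p0 : Q} (hr : act 2 p0 = p0) : act 2 p0 = p0 := by
  exact hr

theorem d15_0 {p0 : Q} (hr : act 3 p0 = p0) : act 3 p0 = p0 := by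
  exact hr


end Cfsg.Agent.Helper17.M11PTC
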